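import Mathlib
import Cfsg.Agent.Lib.OstromWagner.Orbit

/-!
# An abelian normal subgroup of a point stabiliser of a two-transitive group

First lemmas for O'Nan's theorem: lines through two points.
-/

set_option autoImplicit false
set_option linter.unusedSectionVars false
set_option linter.style.haveILetI false

namespace CfsgLib.ONanAbelian

open MulAction

/-- A two-transitive group with a family of abelian `p`-groups fixing the points, with trivial
intersections and not semiregular. -/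
structure Sys (G X : Type*) [Group G] [MulAction G X] where
  N : X → Subgroup G
  p : ℕ
  hp : p.Prime
  isP : ∀ x, IsPGroup p (N x)
  le_stab : ∀ x, ∀ n ∈ N x, n • x = x
  equiv : ∀ (g : G) (x : X), ∀ n ∈ N x, g * n * g⁻¹ ∈ N (g • x)
  comm : ∀ x, ∀ a ∈ N x, ∀ b ∈ N x, a * b = b * a
  ti : ∀ x y, x ≠ y → ∀ g, g ∈ N x → g ∈ N y → g = 1
  two : ∀ a b c d : X, a ≠ b → c ≠ d → ∃ g : G, g • a = c ∧ g • b = d
  nsr : ∀ x y, x ≠ y → ∃ a ∈ N x, a ≠ 1 ∧ a • y = y
  faithful : ∀ g : G, (∀ x : X, g • x = x) → g = 1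

namespace Sys

variable {G X : Type*} [Group G] [Finite G] [MulAction G X] [Finite X] (S : Sys G X)

/-- The stabiliser of a second point. -/
def A (x y : X) : Subgroup G := S.N x ⊓ stabilizer G y

theorem mem_A {x y : X} {g : G} : g ∈ S.A x y ↔ g ∈ S.N x ∧ g • y = y := Iff.rfl

theorem A_fix_left {x y : X} {a : G} (ha : a ∈ S.A x y) : a • x = x := S.le_stab x a ha.1

theorem mem_N_of_conj {x : X} {g n : G} (hg : g • x = x) (hn : n ∈ S.N x) : g * n * g⁻¹ ∈ S.N x := by
  have h := S.equiv g x n hn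
  rwa [hg] at h

theorem conj_mem_A (g : G) {x y : X} {a : G} (ha : a ∈ S.A x y) :
    g * a * g⁻¹ ∈ S.A (g • x) (g • y) :=
  ⟨S.equiv g x a ha.1, show (g * a * g⁻¹) • g • y = g • y by
    rw [mul_smul, mul_smul, inv_smul_smul, show a • y = y from ha.2]⟩

theorem inv_conj_mem_A (g : G) {x y : X} {a : G} (ha : a ∈ S.A (g • x) (g • y)) :
    g⁻¹ * a * g ∈ S.A x y := by
  have h := S.conj_mem_A g⁻¹ ha
  rwa [inv_inv, inv_smul_smul, inv_smul_smul] at h

theorem commute_A {x y : X} (hne : x ≠ y) {a b : G} (ha : a ∈ S.A x y) (hb : b ∈ S.A y x) :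
    a * b = b * a := by
  refine eq_of_div_eq_one (S.ti x y hne _ ?_ ?_)
  · rw [div_eq_mul_inv, mul_inv_rev, ← mul_assoc, mul_assoc a b, mul_assoc a]
    exact mul_mem ha.1 (S.mem_N_of_conj hb.2 (inv_mem ha.1))
  · rw [div_eq_mul_inv, mul_inv_rev, ← mul_assoc]
    exact mul_mem (S.mem_N_of_conj ha.2 hb.1) (inv_mem hb.1)

theorem fix_of_commute {x : X} {a g : G} (ha : a ∈ S.N x) (h1 : a ≠ 1) (hc : g * a = a * g) :
    g • x = x := by
  by_contra hne
  have h := S.equiv g x a ha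
  rw [hc, mul_inv_cancel_right] at h
  exact h1 (S.ti _ _ hne a h ha)

include S in
theorem exists_trans (x y : X) : ∃ g : G, g • x = y := by
  by_cases h : x = y
  · exact ⟨1, by rw [one_smul, h]⟩
  · obtain ⟨g, hg, -⟩ := S.two x y y x h (Ne.symm h)
    exact ⟨g, hg⟩

theorem card_N (x x' : X) : Nat.card (S.N x) = Nat.card (S.N x') := by
  have key : ∀ x x', Nat.card (S.N x) ≤ Nat.card (S.N x') := by
    intro x x'
    obtain ⟨g, rfl⟩ := S.exists_trans x x'
    exact Nat.card_le_card_of_injective (fun a => (⟨g * a * g⁻¹, S.equiv g x a a.2⟩ : S.N (g • x)))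
      fun a b h => Subtype.ext (mul_left_cancel (mul_right_cancel (congrArg Subtype.val h)))
  exact le_antisymm (key _ _) (key _ _)

theorem card_A {x y u v : X} (h : x ≠ y) (h' : u ≠ v) : Nat.card (S.A x y) = Nat.card (S.A u v) := by
  have key : ∀ x y u v, x ≠ y → u ≠ v → Nat.card (S.A x y) ≤ Nat.card (S.A u v) := by
    intro x y u v h h'
    obtain ⟨g, rfl, rfl⟩ := S.two x y u v h h'
    exact Nat.card_le_card_of_injective (fun a => (⟨g * a * g⁻¹, S.conj_mem_A g a.2⟩ : S.A (g • x) (g • y)))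
      fun a b e => Subtype.ext (mul_left_cancel (mul_right_cancel (congrArg Subtype.val e)))
  exact le_antisymm (key _ _ _ _ h h') (key _ _ _ _ h' h)

theorem one_lt_card_A {x y : X} (h : x ≠ y) : 1 < Nat.card (S.A x y) := by
  obtain ⟨a, ha, ha1, hay⟩ := S.nsr x y h
  exact (Subgroup.one_lt_card_iff_ne_bot _).2 fun e =>
    ha1 (Subgroup.mem_bot.1 (e ▸ (show a ∈ S.A x y from ⟨ha, hay⟩)))

theorem orbit_mul (x y : X) : (orbit (S.N x) y).ncard * Nat.card (S.A x y) = Nat.card (S.N x) :=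
  CfsgLib.OstromWagner.ncard_orbit_mul (S.N x) y

theorem orbit_eq {x y u v : X} (h : x ≠ y) (h' : u ≠ v) :
    (orbit (S.N x) y).ncard = (orbit (S.N u) v).ncard := by
  have h1 := S.orbit_mul x y
  rw [S.card_N x u, ← S.orbit_mul u v, S.card_A h h'] at h1
  exact Nat.eq_of_mul_eq_mul_right Nat.card_pos h1

theorem exists_moving {x y : X} (h : x ≠ y) : ∃ n ∈ S.N x, n • y ≠ y := by
  by_contra hc
  push Not at hc
  obtain ⟨a, ha, ha1, -⟩ := S.nsr x y h
  refine ha1 (S.faithful a fun z => ?_)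
  by_cases hz : x = z
  · rw [← hz]; exact S.le_stab x a ha
  obtain ⟨g, hgx, rfl⟩ := S.two x y x z h hz
  have h2 := S.equiv g⁻¹ x a ha
  rw [inv_inv, inv_smul_eq_iff.2 hgx.symm] at h2
  have h3 := hc _ h2
  rwa [mul_smul, mul_smul, inv_smul_eq_iff] at h3

theorem two_le_orbit {x y : X} (h : x ≠ y) : 2 ≤ (orbit (S.N x) y).ncard := by
  obtain ⟨n, hn, hny⟩ := S.exists_moving h
  exact Set.one_lt_ncard_iff_nontrivial.2 ⟨n • y, ⟨⟨n, hn⟩, rfl⟩, y, mem_orbit_self y, hny⟩

theorem smul_mem_orbit {x y : X} {n : G} (hn : n ∈ S.N x) : n • y ∈ orbit (S.N x) y := ⟨⟨n, hn⟩, rfl⟩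

theorem ne_of_mem_orbit {x y z : X} (h : x ≠ y) (hz : z ∈ orbit (S.N x) y) : x ≠ z := by
  obtain ⟨n, rfl⟩ := hz
  intro e
  refine h ?_
  have h2 : (n : G) • x = (n : G) • y := (S.le_stab x n n.2).trans e
  exact smul_left_cancel _ h2

/-- The group of a second point stabiliser fixes its orbit under the abelian group. -/
theorem A_fix_orbit {x y : X} {a n : G} (ha : a ∈ S.A x y) (hn : n ∈ S.N x) : a • n • y = n • y := by
  rw [← mul_smul, S.comm x a ha.1 n hn, mul_smul, show a • y = y from ha.2]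

/-- The stabiliser of `x` in the group of `y` fixes the orbit of `y` under the group of `x`. -/
theorem B_fix_orbit {x y : X} (hne : x ≠ y) {b n : G} (hb : b ∈ S.A y x) (hn : n ∈ S.N x) :
    b • n • y = n • y := by
  haveI : Fact S.p.Prime := ⟨S.hp⟩
  by_cases hy : n • y = y
  · rw [hy, S.le_stab y b hb.1]
  have hne' : y ≠ n • y := Ne.symm hy
  have hact : ∀ (a : S.A x y) (d : S.A y (n • y)), (a : G) * d * (a : G)⁻¹ ∈ S.A y (n • y) := by
    intro a d
    have h := S.conj_mem_A (a : G) d.2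
    rwa [show (a : G) • y = y from a.2.2, S.A_fix_orbit a.2 hn] at h
  letI : MulAction (S.A x y) (S.A y (n • y)) :=
    { smul := fun a d => ⟨_, hact a d⟩
      one_smul := fun d => Subtype.ext (show (1 : G) * d * (1 : G)⁻¹ = d by group)
      mul_smul := fun a a' d => Subtype.ext (show ((a : G) * a') * d * ((a : G) * a')⁻¹ =
        a * (a' * d * (a' : G)⁻¹) * (a : G)⁻¹ by group) }
  have hA : IsPGroup S.p (S.A x y) := (S.isP x).to_le inf_le_left
  have hA' : IsPGroup S.p (S.A y (n • y)) := (S.isP y).to_le inf_le_left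
  have hdvd : S.p ∣ Nat.card (S.A y (n • y)) := by
    obtain ⟨k, hk⟩ := IsPGroup.iff_card.1 hA'
    have := S.one_lt_card_A hne'
    rw [hk] at this ⊢
    exact dvd_pow_self _ fun e => by simp [e] at this
  obtain ⟨d, hd, hd1⟩ := hA.exists_fixed_point_of_prime_dvd_card_of_fixed_point (S.A y (n • y)) hdvd
    (a := 1) (fun a => Subtype.ext (show (a : G) * 1 * (a : G)⁻¹ = 1 by group))
  obtain ⟨a, ha, ha1, hay⟩ := S.nsr x y hne
  have hda : (d : G) * a = a * d := by
    have h : a * d * a⁻¹ = d := congrArg Subtype.val (hd ⟨a, ha, hay⟩)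
    calc (d : G) * a = a * d * a⁻¹ * a := by rw [h]
      _ = a * d := by group
  have hdx : (d : G) • x = x := S.fix_of_commute ha ha1 hda
  -- `a'` is the commutator of `d` with `n`
  have hd1' : (d : G) ≠ 1 := fun e => hd1 (Subtype.ext e.symm)
  have hdn : (d : G) * n * (d : G)⁻¹ * n⁻¹ ∈ S.A x y := by
    refine ⟨(S.N x).mul_mem (S.mem_N_of_conj hdx hn) ((S.N x).inv_mem hn), ?_⟩
    show ((d : G) * n * (d : G)⁻¹ * n⁻¹) • y = y
    rw [S.comm x _ (S.mem_N_of_conj hdx hn) _ (inv_mem hn), mul_smul, mul_smul, mul_smul,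
      inv_smul_eq_iff.2 (S.le_stab y d d.2.1).symm, show (d : G) • n • y = n • y from d.2.2,
      inv_smul_smul]
  set k := b * n * b⁻¹ * n⁻¹ with hk
  have hkN : k ∈ S.N x := mul_mem (S.mem_N_of_conj hb.2 hn) (inv_mem hn)
  have hkd : k * d = d * k := by
    set a' := (d : G) * n * (d : G)⁻¹ * n⁻¹ with ha'
    have hbd : b * d = d * b := S.comm y b hb.1 d d.2.1
    have h1 : (d : G) * k * (d : G)⁻¹ = b * ((d : G) * n * (d : G)⁻¹) * b⁻¹ * ((d : G) * n * (d : G)⁻¹)⁻¹ := by
      rw [hk]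
      calc (d : G) * (b * n * b⁻¹ * n⁻¹) * (d : G)⁻¹
          = ((d : G) * b) * n * ((d : G) * b)⁻¹ * ((d : G) * n * (d : G)⁻¹)⁻¹ := by group
        _ = _ := by rw [← hbd]; group
    have h2 : (d : G) * n * (d : G)⁻¹ = a' * n := by rw [ha']; group
    have hc : b * a' * b⁻¹ = a' := by rw [← S.commute_A hne hdn hb, mul_inv_cancel_right]
    have h3 : (d : G) * k * (d : G)⁻¹ = a' * k * a'⁻¹ := by
      rw [h1, h2, hk, show b * (a' * n) * b⁻¹ = (b * a' * b⁻¹) * (b * n * b⁻¹) by group, hc]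
      group
    rw [S.comm x a' hdn.1 k hkN, mul_inv_cancel_right] at h3
    calc k * d = (d : G) * k * (d : G)⁻¹ * d := by rw [h3]
      _ = d * k := by group
  have hky : k • y = y := S.fix_of_commute d.2.1 hd1' hkd
  calc b • n • y = (k * n * b) • y := by rw [← mul_smul, hk]; congr 1; group
    _ = n • y := by rw [mul_smul, S.le_stab y b hb.1, S.comm x k hkN n hn, mul_smul, hky]

/-- The product of the two stabilisers of a pair. -/
def PP (x y : X) : Subgroup G := S.A x y ⊔ S.A y x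

theorem mem_PP {x y : X} (hne : x ≠ y) {g : G} :
    g ∈ S.PP x y ↔ ∃ a ∈ S.A x y, ∃ b ∈ S.A y x, a * b = g := by
  have h := Subgroup.coe_mul_of_left_le_normalizer_right (S.A x y) (S.A y x) (fun a ha => by
    rw [Subgroup.mem_normalizer_iff]
    intro b
    constructor
    · intro hb
      rwa [S.commute_A hne ha hb, mul_inv_cancel_right]
    · intro hb
      have := S.commute_A hne (inv_mem ha) hb
      rw [show b = a⁻¹ * (a * b * a⁻¹) * a by group, this, inv_mul_cancel_right]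
      exact hb)
  rw [← SetLike.mem_coe, PP, h, Set.mem_mul]
  rfl

theorem card_PP {x y : X} (hne : x ≠ y) : Nat.card (S.PP x y) = Nat.card (S.A x y) * Nat.card (S.A y x) := by
  rw [← Nat.card_prod]
  refine (Nat.card_congr (Equiv.ofBijective (fun q : S.A x y × S.A y x =>
    (⟨(q.1 : G) * q.2, (S.mem_PP hne).2 ⟨_, q.1.2, _, q.2.2, rfl⟩⟩ : S.PP x y)) ⟨?_, ?_⟩)).symm
  · intro q q' h
    have h' : (q.1 : G) * q.2 = q'.1 * q'.2 := congrArg Subtype.val h
    have h1 : (q'.1 : G)⁻¹ * q.1 = q'.2 * (q.2 : G)⁻¹ :=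
      eq_mul_inv_of_mul_eq (by rw [mul_assoc, h', inv_mul_cancel_left])
    have h2 := S.ti x y hne _ (mul_mem (inv_mem q'.1.2.1) q.1.2.1) (h1 ▸ mul_mem q'.2.2.1 (inv_mem q.2.2.1))
    have e1 : q.1 = q'.1 := Subtype.ext (inv_mul_eq_one.1 h2).symm
    refine Prod.ext e1 (Subtype.ext ?_)
    rw [h2] at h1
    exact (mul_inv_eq_one.1 h1.symm).symm
  · rintro ⟨g, hg⟩
    obtain ⟨a, ha, b, hb, rfl⟩ := (S.mem_PP hne).1 hg
    exact ⟨(⟨a, ha⟩, ⟨b, hb⟩), rfl⟩

/-- The line through two points. -/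
def line (x y : X) : Set X :=
  {z | (∀ g ∈ S.PP x y, g • z = z) ∧ Nat.card (S.A x y) ≤ Nat.card (S.N z ⊓ S.PP x y : Subgroup G)}

theorem PP_fix_left {x y : X} : ∀ g ∈ S.PP x y, g • x = x := fun _ hg =>
  (sup_le (c := stabilizer G x) (a := S.A x y) (b := S.A y x) (fun _ ha => S.A_fix_left ha)
    (inf_le_right : S.A y x ≤ stabilizer G x)) hg

theorem PP_comm (x y : X) : S.PP x y = S.PP y x := sup_comm _ _

theorem left_mem_line (x y : X) : x ∈ S.line x y :=
  ⟨S.PP_fix_left, Subgroup.card_le_of_le fun _ ha => ⟨ha.1, le_sup_left (a := S.A x y) ha⟩⟩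

theorem line_comm {x y : X} (hne : x ≠ y) : S.line x y = S.line y x := by
  rw [line, line, S.PP_comm, S.card_A hne hne.symm]

theorem right_mem_line {x y : X} (hne : x ≠ y) : y ∈ S.line x y :=
  S.line_comm hne ▸ S.left_mem_line y x

theorem line_eq {x y u v : X} (hne : x ≠ y) (hu : u ∈ S.line x y) (hv : v ∈ S.line x y) (huv : u ≠ v) :
    S.line u v = S.line x y := by
  have key : ∀ u v, u ∈ S.line x y → v ∈ S.line x y → u ≠ v → S.A u v ≤ S.PP x y := by
    intro u v hu hv huv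
    have hle : S.N u ⊓ S.PP x y ≤ S.A u v := fun g hg => ⟨hg.1, hv.1 g hg.2⟩
    have h := Subgroup.eq_of_le_of_card_ge hle (by rw [← S.card_A hne huv]; exact hu.2)
    rw [← h]
    exact inf_le_right
  have hP : S.PP u v = S.PP x y := by
    refine Subgroup.eq_of_le_of_card_ge (sup_le (key u v hu hv huv) (key v u hv hu huv.symm)) ?_
    rw [S.card_PP hne, S.card_PP huv, S.card_A hne huv, S.card_A hne.symm huv.symm]
  rw [line, line, hP, S.card_A huv hne]

theorem smul_mem_line (g : G) {x y z : X} (hne : x ≠ y) (hz : z ∈ S.line x y) :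
    g • z ∈ S.line (g • x) (g • y) := by
  have hne' : g • x ≠ g • y := fun e => hne (smul_left_cancel g e)
  have hPP : ∀ h ∈ S.PP x y, g * h * g⁻¹ ∈ S.PP (g • x) (g • y) := by
    intro h hh
    obtain ⟨a, ha, b, hb, rfl⟩ := (S.mem_PP hne).1 hh
    exact (S.mem_PP hne').2 ⟨_, S.conj_mem_A g ha, _, S.conj_mem_A g hb, by group⟩
  refine ⟨fun h hh => ?_, ?_⟩
  · obtain ⟨a, ha, b, hb, rfl⟩ := (S.mem_PP hne').1 hh
    have h1 := hz.1 _ ((S.mem_PP hne).2 ⟨_, S.inv_conj_mem_A g ha, _, S.inv_conj_mem_A g hb, rfl⟩)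
    rw [show g⁻¹ * a * g * (g⁻¹ * b * g) = g⁻¹ * (a * b) * g by group, mul_smul, mul_smul,
      inv_smul_eq_iff] at h1
    exact h1
  · rw [← S.card_A hne hne']
    refine hz.2.trans (Nat.card_le_card_of_injective
      (fun h => (⟨g * h * g⁻¹, S.equiv g z h h.2.1, hPP h h.2.2⟩ : (S.N (g • z) ⊓ S.PP (g • x) (g • y) : Subgroup G))) ?_)
    exact fun a b e => Subtype.ext (mul_left_cancel (mul_right_cancel (congrArg Subtype.val e)))

theorem orbit_subset_line {x y : X} (hne : x ≠ y) : orbit (S.N x) y ⊆ S.line x y := by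
  rintro _ ⟨⟨n, hn⟩, rfl⟩
  show n • y ∈ S.line x y
  refine ⟨fun g hg => ?_, ?_⟩
  · obtain ⟨a, ha, b, hb, rfl⟩ := (S.mem_PP hne).1 hg
    rw [mul_smul, S.B_fix_orbit hne hb hn, S.A_fix_orbit ha hn]
  rw [S.card_A hne hne.symm]
  refine Nat.card_le_card_of_injective (fun b => (⟨n * b * n⁻¹, S.equiv n y b b.2.1, ?_⟩ :
    (S.N (n • y) ⊓ S.PP x y : Subgroup G))) fun a b e =>
      Subtype.ext (mul_left_cancel (mul_right_cancel (congrArg Subtype.val e)))
  have hbx : (b : G) • x = x := b.2.2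
  have hmem : n * b * n⁻¹ * (b : G)⁻¹ ∈ S.N x := by
    rw [mul_assoc, mul_assoc, ← mul_assoc (b : G)]
    exact mul_mem hn (S.mem_N_of_conj hbx (inv_mem hn))
  refine (S.mem_PP hne).2 ⟨_, ⟨hmem, ?_⟩, b, b.2, inv_mul_cancel_right _ _⟩
  show (n * b * n⁻¹ * (b : G)⁻¹) • y = y
  rw [mul_smul, inv_smul_eq_iff.2 (S.le_stab y b b.2.1).symm, mul_smul, mul_smul,
    S.B_fix_orbit hne b.2 (inv_mem hn), smul_inv_smul]

/-- The group of a point fixes all lines through that point. -/
theorem N_fix_line {x y z : X} (hne : x ≠ y) {n : G} (hn : n ∈ S.N x) (hz : z ∈ S.line x y) :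
    n • z ∈ S.line x y := by
  have h := S.smul_mem_line n hne hz
  have hy : n • y ∈ S.line x y := S.orbit_subset_line hne (S.smul_mem_orbit hn)
  rw [S.le_stab x n hn] at h
  rwa [S.line_eq hne (S.left_mem_line x y) hy (S.ne_of_mem_orbit hne (S.smul_mem_orbit hn))] at h

/-- The fixed points of an element of the group of a point are closed under lines. -/
theorem fix_line {x u v w : X} {a : G} (ha : a ∈ S.N x) (huv : u ≠ v) (hu : a • u = u) (hv : a • v = v)
    (hw : w ∈ S.line u v) : a • w = w := by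
  by_cases hx : x ∈ S.line u v
  · obtain ⟨u', hu', hu'x, hau'⟩ : ∃ u' ∈ S.line u v, x ≠ u' ∧ a • u' = u' := by
      by_cases hxu : x = u
      · exact ⟨v, S.right_mem_line huv, hxu ▸ huv, hv⟩
      · exact ⟨u, S.left_mem_line u v, hxu, hu⟩
    rw [← S.line_eq huv hx hu' hu'x] at hw
    exact hw.1 a (le_sup_left (a := S.A x u') ⟨ha, hau'⟩)
  by_contra hne
  have hxw : x ≠ w := fun e => hx (e ▸ hw)
  have h1 := S.smul_mem_line a huv hw
  rw [hu, hv] at h1
  have h2 := S.N_fix_line hxw ha (S.right_mem_line hxw)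
  refine hx ?_
  rw [← S.line_eq huv hw h1 (Ne.symm hne), S.line_eq hxw (S.right_mem_line hxw) h2 (Ne.symm hne)]
  exact S.left_mem_line x w

/-- If `a` moves `z`, the stabiliser of `x` in the group of `y` has a long orbit at `z`. -/
theorem long_orbit {x y z : X} (hne : x ≠ y) {a : G} (ha : a ∈ S.A x y) (hz : a • z ≠ z) :
    (orbit (S.N y) x).ncard ≤ (orbit (S.A y x) z).ncard := by
  have hψ : ∀ m ∈ S.N y, a * m * a⁻¹ * m⁻¹ ∈ S.A y x := by
    intro m hm
    refine ⟨(S.N y).mul_mem (S.mem_N_of_conj ha.2 hm) ((S.N y).inv_mem hm), ?_⟩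
    show (a * m * a⁻¹ * m⁻¹) • x = x
    rw [S.comm y _ (S.mem_N_of_conj ha.2 hm) _ (inv_mem hm), mul_smul, mul_smul, mul_smul,
      inv_smul_eq_iff.2 (S.A_fix_left ha).symm, S.B_fix_orbit hne.symm ha hm, inv_smul_smul]
  have hker : ∀ m ∈ S.N y, (a * m * a⁻¹ * m⁻¹) • z = z → m • x = x := by
    intro m hm hdz
    by_contra hmx
    set d := a * m * a⁻¹ * m⁻¹ with hd
    obtain ⟨hdN, hdx⟩ := hψ m hm
    have hzx : z ≠ x := fun e => hz (by rw [e]; exact S.A_fix_left ha)
    have hzl : z ∉ S.line x y := fun h => hz (h.1 a (le_sup_left (a := S.A x y) ha))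
    have haz : a • z ∈ S.line x z := S.N_fix_line hzx.symm ha.1 (S.right_mem_line hzx.symm)
    have hdaz : d • a • z = a • z := S.fix_line hdN hzx.symm hdx hdz haz
    have hau : a • m • z = m • a • z := by
      rw [← mul_smul, show a * m = d * m * a by rw [hd]; group, S.comm y d hdN m hm, mul_smul, mul_smul, hdaz]
    -- the line `x (m z)` against the image of the line `x z`
    have hxu : x ≠ m • z := fun e => by
      have h1 := S.N_fix_line hne.symm (inv_mem hm) (S.right_mem_line hne.symm)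
      rw [show z = m⁻¹ • x by rw [e, inv_smul_smul], ← S.line_comm hne.symm] at hzl
      exact hzl h1
    have hfix : a • m • z = m • z := by
      by_contra hmove
      have h1 : a • m • z ∈ S.line (m • x) (m • z) := hau ▸ S.smul_mem_line m hzx.symm haz
      have hvu : m • x ≠ m • z := fun e => hzx.symm (smul_left_cancel m e)
      have h2 : a • m • z ∈ S.line x (m • z) := S.N_fix_line hxu ha.1 (S.right_mem_line hxu)
      have e1 := S.line_eq hvu (S.right_mem_line hvu) h1 (Ne.symm hmove)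
      rw [S.line_eq hxu (S.right_mem_line hxu) h2 (Ne.symm hmove)] at e1
      have hvmem : m • x ∈ S.line x (m • z) := e1 ▸ S.left_mem_line _ _
      have hvy : m • x ∈ S.line x y := by
        rw [S.line_comm hne]
        exact S.N_fix_line hne.symm hm (S.right_mem_line hne.symm)
      have e2 := S.line_eq hxu (S.left_mem_line _ _) hvmem (Ne.symm hmx)
      rw [S.line_eq hne (S.left_mem_line _ _) hvy (Ne.symm hmx)] at e2
      refine hzl ?_
      have hu : m • z ∈ S.line y x := by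
        rw [← S.line_comm hne, e2]
        exact S.right_mem_line hxu
      have := S.N_fix_line hne.symm (inv_mem hm) hu
      rwa [inv_smul_smul, ← S.line_comm hne] at this
    have hyz : y ≠ z := fun e => hz (e ▸ ha.2)
    have hyu : y ≠ m • z := fun e => hyz (by
      have h := S.le_stab y m hm
      exact smul_left_cancel m (h.trans e))
    refine hz (S.fix_line ha.1 hyu ha.2 hfix ?_)
    have h := S.N_fix_line hyu (inv_mem hm) (S.right_mem_line hyu)
    rwa [inv_smul_smul] at h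
  choose m hm hmx using fun v : orbit (S.N y) x =>
    (by obtain ⟨⟨m, hm⟩, h⟩ := v.2; exact ⟨m, hm, h⟩ : ∃ m ∈ S.N y, m • x = v.1)
  rw [← Nat.card_coe_set_eq, ← Nat.card_coe_set_eq]
  refine Nat.card_le_card_of_injective
    (fun v => (⟨(a * m v * a⁻¹ * (m v)⁻¹) • z, ⟨⟨_, hψ _ (hm v)⟩, rfl⟩⟩ : orbit (S.A y x) z)) fun v v' h => ?_
  have h' : (a * m v * a⁻¹ * (m v)⁻¹) • z = (a * m v' * a⁻¹ * (m v')⁻¹) • z := congrArg Subtype.val h
  have hk : a * ((m v')⁻¹ * m v) * a⁻¹ ∈ S.N y := S.mem_N_of_conj ha.2 (mul_mem (inv_mem (hm v')) (hm v))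
  have := hker _ (mul_mem (inv_mem (hm v')) (hm v)) (by
    rw [show a * ((m v')⁻¹ * m v) * a⁻¹ * ((m v')⁻¹ * m v)⁻¹ =
        (a * ((m v')⁻¹ * m v) * a⁻¹) * (m v)⁻¹ * m v' by group,
      S.comm y _ (mul_mem hk (inv_mem (hm v))) _ (hm v'),
      show m v' * (a * ((m v')⁻¹ * m v) * a⁻¹ * (m v)⁻¹) =
        (a * m v' * a⁻¹ * (m v')⁻¹)⁻¹ * (a * m v * a⁻¹ * (m v)⁻¹) by group,
      mul_smul, h', inv_smul_smul])
  rw [mul_smul, inv_smul_eq_iff, hmx, hmx] at this
  exact Subtype.ext this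

/-- If the stabiliser of `y` in the group of `x` moves `z`, it is transitive on the orbit of `z`. -/
theorem A_orbit {x y z : X} (hne : x ≠ y) {a : G} (ha : a ∈ S.A x y) (hz : a • z ≠ z) :
    orbit (S.A x y) z = orbit (S.N x) z := by
  have h1 := S.long_orbit hne ha hz
  have h2 := S.two_le_orbit hne.symm
  obtain ⟨b, hb⟩ : ∃ b : S.A y x, b • z ≠ z := by
    by_contra hc
    push Not at hc
    have : orbit (S.A y x) z ⊆ {z} := by
      rintro _ ⟨b, rfl⟩
      exact hc b
    have := Set.ncard_le_ncard this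
    rw [Set.ncard_singleton] at this
    omega
  have h3 := S.long_orbit hne.symm b.2 hb
  have hzx : x ≠ z := fun e => hz (e ▸ S.A_fix_left ha)
  rw [S.orbit_eq hne hzx] at h3
  refine Set.eq_of_subset_of_ncard_le ?_ h3 (Set.toFinite _)
  rintro _ ⟨c, rfl⟩
  exact ⟨⟨c, c.2.1⟩, rfl⟩

end Sys

end CfsgLib.ONanAbelian
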