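import Cfsg.Agent.Lib.ONanAbelian.Lines
import Cfsg.Agent.Lib.AxialDesign.Setup

/-!
# The hyperplanes form a symmetric design
-/

set_option autoImplicit false
set_option linter.unusedSectionVars false
set_option linter.style.haveILetI false

namespace CfsgLib.ONanAbelian

open MulAction Finset

namespace Sys

variable {G X : Type*} [Group G] [Finite G] [MulAction G X] [Fintype X] [DecidableEq X] (S : Sys G X)

/-- The fixed points of an element. -/
def Fx (a : G) : Finset X := univ.filter fun z => a • z = z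

theorem mem_Fx {a : G} {z : X} : z ∈ Fx (X := X) a ↔ a • z = z := by simp [Fx]

theorem Fx_conj (g a : G) : Fx (X := X) (g * a * g⁻¹) = (Fx a).image (g • ·) := by
  ext z
  simp only [mem_Fx, mem_image]
  constructor
  · intro h
    refine ⟨g⁻¹ • z, ?_, smul_inv_smul g z⟩
    rwa [mul_smul, mul_smul, smul_eq_iff_eq_inv_smul] at h
  · rintro ⟨w, hw, rfl⟩
    rw [mul_smul, mul_smul, inv_smul_smul, hw]

variable {e : ℕ} (he : ∀ x y : X, x ≠ y → (orbit (S.N x) y).ncard = e)

include he in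
open _root_.Classical in
theorem fix_count {x : X} {a : G} (ha : a ∈ S.N x) (h1 : a ≠ 1) :
    e * #(Fx (X := X) a) + 1 = Fintype.card X := by
  obtain ⟨p, hp⟩ : ∃ p, a • p ≠ p := by
    by_contra hc
    push Not at hc
    exact h1 (S.faithful a hc)
  have huniq : ∀ z, z ≠ p → ∀ f f', f ∈ S.F p z → f' ∈ S.F p z → a • f = f → a • f' = f' → f = f' := by
    intro z hz f f' hf hf' haf haf'
    by_contra hne
    refine hp (S.fix_F ha hne haf haf' ?_)
    rw [S.F_eq (Ne.symm hz) hf hf' hne]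
    exact S.left_mem_F p z
  choose π hπ hπa using fun z (hz : z ≠ p) => S.meets (x := x) (Ne.symm hz) ha
  let π' : X → X := fun z => if h : z ≠ p then π z h else x
  have h := card_eq_sum_card_fiberwise (f := π') (s := univ.erase p) (t := Fx (X := X) a) fun z hz => by
    simp only [coe_erase, coe_univ, Set.mem_sdiff, Set.mem_univ, Set.mem_singleton_iff, true_and] at hz
    simp only [π', dif_pos hz, mem_coe, mem_Fx]
    exact hπa z hz
  rw [sum_congr rfl (g := fun _ => e), sum_const, smul_eq_mul, card_erase_of_mem (mem_univ p), card_univ] at h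
  · have : 0 < Fintype.card X := Fintype.card_pos_iff.2 ⟨x⟩
    rw [mul_comm]
    omega
  intro f hf
  rw [mem_Fx] at hf
  have hfp : p ≠ f := fun e => hp (e ▸ hf)
  have hF := S.ncard_F_eq hfp
  rw [he p f hfp] at hF
  rw [← Set.ncard_coe_finset, show e = ((S.F p f) \ {p}).ncard by
    rw [Set.ncard_sdiff_singleton_of_mem (S.left_mem_F p f)]; omega]
  congr 1
  ext z
  simp only [coe_filter, mem_erase, mem_univ, and_true, Set.mem_ofPred_eq, Set.mem_sdiff, Set.mem_singleton_iff]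
  constructor
  · rintro ⟨hz, rfl⟩
    simp only [π', dif_pos hz] at hfp ⊢
    refine ⟨?_, hz⟩
    rw [S.F_eq (Ne.symm hz) (S.left_mem_F p z) (hπ z hz) hfp]
    exact S.right_mem_F p z
  · rintro ⟨hzF, hz⟩
    refine ⟨hz, ?_⟩
    simp only [π', dif_pos hz]
    refine huniq z hz _ _ (hπ z hz) ?_ (hπa z hz) hf
    rw [S.F_eq hfp (S.left_mem_F p f) hzF (Ne.symm hz)]
    exact S.right_mem_F p f

include he in
theorem Fx_eq_of_subset {x x' : X} {a a' : G} (ha : a ∈ S.N x) (h1 : a ≠ 1) (ha' : a' ∈ S.N x')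
    (h1' : a' ≠ 1) (h : Fx (X := X) a ⊆ Fx a') : Fx (X := X) a = Fx a' := by
  refine eq_of_subset_of_card_le h ?_
  have e1 := S.fix_count he ha h1
  have e2 := S.fix_count he ha' h1'
  have he0 : e ≠ 0 := by
    intro h0
    obtain ⟨y, hy⟩ : ∃ y, a • y ≠ y := by
      by_contra hc; push Not at hc; exact h1 (S.faithful a hc)
    have hxy : x ≠ y := fun e => hy (e ▸ S.le_stab x a ha)
    have := S.two_le_orbit hxy
    rw [he x y hxy] at this
    omega
  exact le_of_eq (Nat.eq_of_mul_eq_mul_left (Nat.pos_of_ne_zero he0) (by omega))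

include he in
/-- Every further fixed point is the centre of an element with the same axis. -/
theorem transfer {x y : X} {a : G} (ha : a ∈ S.N x) (h1 : a ≠ 1) (hy : a • y = y) (hne : x ≠ y) :
    ∃ b ∈ S.N y, b ≠ 1 ∧ Fx (X := X) b = Fx a := by
  obtain ⟨m, hm, hmx⟩ := S.exists_moving hne.symm
  have hbN : m * a * m⁻¹ * a⁻¹ ∈ S.N y := by
    rw [show m * a * m⁻¹ * a⁻¹ = m * (a * m⁻¹ * a⁻¹) by group]
    exact mul_mem hm (S.mem_N_of_conj hy (inv_mem hm))
  have hb1 : m * a * m⁻¹ * a⁻¹ ≠ 1 := fun h => hmx (S.fix_of_commute ha h1 (by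
    rwa [mul_inv_eq_one, mul_inv_eq_iff_eq_mul] at h))
  refine ⟨_, hbN, hb1, (S.Fx_eq_of_subset he ha h1 hbN hb1 fun w hw => ?_).symm⟩
  rw [mem_Fx] at hw ⊢
  rw [mul_smul, inv_smul_eq_iff.2 hw.symm]
  by_cases hwy : y = w
  · subst hwy
    rw [mul_smul, mul_smul, inv_smul_eq_iff.2 (S.le_stab y m hm).symm, hy, S.le_stab y m hm]
  have hw' : a • m⁻¹ • w = m⁻¹ • w :=
    S.fix_F ha hwy hy hw (S.N_fix_F hwy (inv_mem hm) (S.right_mem_F y w))
  rw [mul_smul, mul_smul, hw', smul_inv_smul]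

include he in
theorem exists_other_fixed {x : X} {a : G} (ha : a ∈ S.N x) (h1 : a ≠ 1) :
    ∃ y, x ≠ y ∧ a • y = y := by
  by_contra hc
  push Not at hc
  have h := S.fix_count he ha h1
  have hF : Fx (X := X) a = {x} := by
    ext z
    simp only [mem_Fx, Finset.mem_singleton]
    exact ⟨fun hz => by_contra fun hzx => hc z (Ne.symm hzx) hz, fun hz => hz ▸ S.le_stab x a ha⟩
  obtain ⟨y, hy⟩ : ∃ y, a • y ≠ y := by
    by_contra hc'; push Not at hc'; exact h1 (S.faithful a hc')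
  have hxy : x ≠ y := fun e => hy (e ▸ S.le_stab x a ha)
  obtain ⟨w, hw⟩ := S.exists_notMem_F hxy
  have h2 : (S.F x y).ncard < Fintype.card X := by
    rw [← Nat.card_eq_fintype_card, ← Set.ncard_univ]
    exact Set.ncard_lt_ncard (Set.ssubset_univ_iff.2 fun e => hw (e ▸ Set.mem_univ w))
  rw [hF, Finset.card_singleton] at h
  rw [S.ncard_F_eq hxy, he x y hxy] at h2
  omega

include he in
open _root_.Classical in
theorem axis_card [Fintype G] {x : X} {a : G} (ha : a ∈ S.N x) (h1 : a ≠ 1) :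
    #(univ.filter fun c : G => c ∈ S.N x ∧ ∀ z ∈ Fx (X := X) a, c • z = z) = e := by
  set T := univ.filter fun c : G => c ∈ S.N x ∧ ∀ z ∈ Fx (X := X) a, c • z = z with hT
  refine le_antisymm ?_ ?_
  · obtain ⟨p, hp⟩ : ∃ p, a • p ≠ p := by
      by_contra hc; push Not at hc; exact h1 (S.faithful a hc)
    have hxp : x ≠ p := fun e => hp (e ▸ S.le_stab x a ha)
    rw [← he x p hxp, Set.ncard_eq_toFinset_card]
    refine card_le_card_of_injOn (fun c => c • p) (fun c hc => ?_) (fun c hc d hd h => ?_)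
    · simp only [hT, coe_filter, mem_univ, true_and, Set.mem_ofPred_eq] at hc
      rw [mem_coe, Set.Finite.mem_toFinset]
      exact S.smul_mem_orbit hc.1
    · simp only [hT, coe_filter, mem_univ, true_and, Set.mem_ofPred_eq] at hc hd
      by_contra hne
      have hk1 : d⁻¹ * c ≠ 1 := fun e => hne (inv_mul_eq_one.1 e).symm
      have hsub : Fx (X := X) a ⊆ Fx (d⁻¹ * c) := fun z hz => by
        rw [mem_Fx, mul_smul, hc.2 z hz, inv_smul_eq_iff, hd.2 z hz]
      refine hp (mem_Fx.1 ?_)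
      rw [S.Fx_eq_of_subset he ha h1 (mul_mem (inv_mem hd.1) hc.1) hk1 hsub, mem_Fx, mul_smul, inv_smul_eq_iff]
      exact h
  · obtain ⟨y, hxy, hy⟩ := S.exists_other_fixed he ha h1
    obtain ⟨b, hb, hb1, hFb⟩ := S.transfer he ha h1 hy hxy
    have hbx : b • x = x := mem_Fx.1 (hFb ▸ mem_Fx.2 (S.le_stab x a ha))
    rw [← he x y hxy, Set.ncard_eq_toFinset_card]
    choose n hn hnv using fun v : orbit (S.N x) y =>
      (by obtain ⟨⟨n, hn⟩, h⟩ := v.2; exact ⟨n, hn, h⟩ : ∃ n ∈ S.N x, n • y = v.1)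
    refine card_le_card_of_injOn (fun v => if h : v ∈ orbit (S.N x) y then n ⟨v, h⟩ * b * (n ⟨v, h⟩)⁻¹ * b⁻¹ else 1)
      (fun v hv => ?_) (fun v hv w hw h => ?_)
    · rw [mem_coe, Set.Finite.mem_toFinset] at hv
      simp only [dif_pos hv, hT, coe_filter, mem_univ, true_and, Set.mem_ofPred_eq]
      refine ⟨?_, fun z hz => ?_⟩
      · rw [show n ⟨v, hv⟩ * b * (n ⟨v, hv⟩)⁻¹ * b⁻¹ = n ⟨v, hv⟩ * (b * (n ⟨v, hv⟩)⁻¹ * b⁻¹) by group]
        exact mul_mem (hn _) (S.mem_N_of_conj hbx (inv_mem (hn _)))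
      · have hbz : b • z = z := mem_Fx.1 (hFb ▸ hz)
        rw [mul_smul, inv_smul_eq_iff.2 hbz.symm, mul_smul, mul_smul]
        by_cases hzx : x = z
        · subst hzx
          rw [inv_smul_eq_iff.2 (S.le_stab x _ (hn _)).symm, hbx, S.le_stab x _ (hn _)]
        have h2 : b • (n ⟨v, hv⟩)⁻¹ • z = (n ⟨v, hv⟩)⁻¹ • z :=
          S.fix_F hb hzx hbx hbz (S.N_fix_F hzx (inv_mem (hn _)) (S.right_mem_F x z))
        rw [h2, smul_inv_smul]
    · rw [mem_coe, Set.Finite.mem_toFinset] at hv hw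
      simp only [dif_pos hv, dif_pos hw] at h
      have h2 := mul_right_cancel h
      have hcomm : ((n ⟨w, hw⟩)⁻¹ * n ⟨v, hv⟩) * b = b * ((n ⟨w, hw⟩)⁻¹ * n ⟨v, hv⟩) := by
        calc ((n ⟨w, hw⟩)⁻¹ * n ⟨v, hv⟩) * b
            = (n ⟨w, hw⟩)⁻¹ * (n ⟨v, hv⟩ * b * (n ⟨v, hv⟩)⁻¹) * n ⟨v, hv⟩ := by group
          _ = b * ((n ⟨w, hw⟩)⁻¹ * n ⟨v, hv⟩) := by rw [h2]; group
      have h3 := S.fix_of_commute hb hb1 hcomm
      rwa [mul_smul, inv_smul_eq_iff, hnv, hnv] at h3

include S in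
open _root_.Classical in
/-- O'Nan's theorem. -/
theorem psl_normal (hX : ∃ x y : X, x ≠ y) :
    ∃ (m : ℕ) (K : Type) (_ : Field K) (_ : Fintype K), 2 ≤ m ∧
      Nat.card X = (Fintype.card K ^ (m + 1) - 1) / (Fintype.card K - 1) ∧
      ∃ L : Subgroup G, L.Normal ∧ Nonempty (L ≃* Matrix.ProjectiveSpecialLinearGroup (Fin (m + 1)) K) ∧
        Subgroup.centralizer (L : Set G) = ⊥ := by
  cases nonempty_fintype G
  obtain ⟨x₀, y₀, hxy₀⟩ := hX
  set e := (orbit (S.N x₀) y₀).ncard with hedef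
  have he : ∀ x y : X, x ≠ y → (orbit (S.N x) y).ncard = e := fun x y h => S.orbit_eq h hxy₀
  have he2 : 2 ≤ e := S.two_le_orbit hxy₀
  obtain ⟨a₀, ha₀, ha₀1, hay₀⟩ := S.nsr x₀ y₀ hxy₀
  set k := #(Fx (X := X) a₀) with hk
  have hkall : ∀ x, ∀ a ∈ S.N x, a ≠ 1 → #(Fx (X := X) a) = k := fun x a ha h1 => by
    have e1 := S.fix_count he ha h1
    have e2 := S.fix_count he ha₀ ha₀1
    rw [← hk] at e2
    exact Nat.eq_of_mul_eq_mul_left (by omega : 0 < e) (by omega)
  have hn : e * k + 1 = Fintype.card X := S.fix_count he ha₀ ha₀1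
  set Blocks := univ.filter fun F : Finset X => ∃ x, ∃ a ∈ S.N x, a ≠ 1 ∧ Fx a = F with hBlocks
  have hmemB : ∀ F, F ∈ Blocks ↔ ∃ x, ∃ a ∈ S.N x, a ≠ 1 ∧ Fx a = F := fun F => by simp [hBlocks]
  have hthru : ∀ x, #(Blocks.filter fun F => x ∈ F) = k := by
    intro x
    set Nx := (univ.filter fun c : G => c ∈ S.N x).erase 1 with hNx
    have hNcard : #Nx + 1 = Nat.card (S.N x) := by
      rw [hNx, card_erase_add_one (by simp [one_mem]), Nat.card_eq_fintype_card, Fintype.card_subtype]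
    have himg : Blocks.filter (fun F => x ∈ F) = Nx.image (Fx (X := X)) := by
      ext F
      simp only [mem_filter, mem_image, hNx, mem_erase, mem_univ, true_and, hmemB]
      constructor
      · rintro ⟨⟨z, a, ha, h1, rfl⟩, hx⟩
        by_cases hzx : z = x
        · exact ⟨a, ⟨h1, hzx ▸ ha⟩, rfl⟩
        obtain ⟨b, hb, hb1, hFb⟩ := S.transfer he ha h1 (mem_Fx.1 hx) hzx
        exact ⟨b, ⟨hb1, hb⟩, hFb⟩
      · rintro ⟨a, ⟨h1, ha⟩, rfl⟩
        exact ⟨⟨x, a, ha, h1, rfl⟩, mem_Fx.2 (S.le_stab x a ha)⟩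
    have hfib : #(Nx.image (Fx (X := X))) * (e - 1) = #Nx := by
      rw [card_eq_sum_card_image (Fx (X := X)) Nx, sum_congr rfl (g := fun _ => e - 1), sum_const, smul_eq_mul]
      intro F hF
      obtain ⟨a, ha, rfl⟩ := mem_image.1 hF
      simp only [hNx, mem_erase, mem_filter, mem_univ, true_and] at ha
      rw [← S.axis_card he ha.2 ha.1, ← card_erase_of_mem (s := univ.filter fun c : G => c ∈ S.N x ∧ ∀ z ∈ Fx (X := X) a, c • z = z) (a := 1) (by simp [one_mem])]
      congr 1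
      ext c
      simp only [hNx, mem_filter, mem_erase, mem_univ, true_and]
      constructor
      · rintro ⟨⟨hc1, hc⟩, hF⟩
        exact ⟨hc1, hc, fun z hz => mem_Fx.1 (hF ▸ hz)⟩
      · rintro ⟨hc1, hc, hfix⟩
        exact ⟨⟨hc1, hc⟩, (S.Fx_eq_of_subset he ha.2 ha.1 hc hc1 fun z hz => mem_Fx.2 (hfix z hz)).symm⟩
    have hcount : ∑ z : X, #(Nx.filter fun c => c • z = z) = #Nx * k := by
      have h := sum_card_bipartiteAbove_eq_sum_card_bipartiteBelow (s := Nx) (t := (univ : Finset X)) (fun c z => c • z = z)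
      simp only [bipartiteAbove, bipartiteBelow] at h
      rw [← h, sum_congr rfl (g := fun _ => k), sum_const, smul_eq_mul]
      intro c hc
      simp only [hNx, mem_erase, mem_filter, mem_univ, true_and] at hc
      exact hkall x c hc.2 hc.1
    obtain ⟨y, hy⟩ : ∃ y, x ≠ y := by
      by_cases h : x = x₀
      · exact ⟨y₀, h ▸ hxy₀⟩
      · exact ⟨x₀, h⟩
    rw [← add_sum_erase _ _ (mem_univ x), sum_congr rfl (g := fun _ => Nat.card (S.A x y) - 1), sum_const,
      smul_eq_mul, card_erase_of_mem (mem_univ x), card_univ, ← hn, Nat.add_sub_cancel,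
      filter_true_of_mem (fun c hc => S.le_stab x c (mem_filter.1 (mem_of_mem_erase hc)).2)] at hcount
    · have hs := S.orbit_mul x y
      rw [he x y hy, ← hNcard] at hs
      obtain ⟨s, hs'⟩ : ∃ s, Nat.card (S.A x y) = s + 1 := ⟨Nat.card (S.A x y) - 1, by have := S.one_lt_card_A hy; omega⟩
      obtain ⟨e', he'⟩ : ∃ e', e = e' + 1 := ⟨e - 1, by omega⟩
      rw [hs', Nat.add_sub_cancel] at hcount
      rw [hs'] at hs
      rw [he', Nat.add_sub_cancel] at hfib
      rw [himg]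
      refine Nat.eq_of_mul_eq_mul_right (show 0 < e' by omega) ?_
      rw [hfib]
      rw [he'] at hs hcount
      nlinarith [hs, hcount]
    intro z hz
    rw [S.card_A hy (ne_of_mem_erase hz).symm, Nat.card_eq_fintype_card, Fintype.card_subtype,
      ← card_erase_of_mem (s := univ.filter fun c : G => c ∈ S.A x z) (a := 1) (by simp [one_mem])]
    congr 1
    ext c
    simp [hNx, S.mem_A, and_assoc]
  have hkB : ∀ F ∈ Blocks, #F = k := fun F hF => by
    obtain ⟨x, a, ha, h1, rfl⟩ := (hmemB F).1 hF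
    exact hkall x a ha h1
  have hk2 : 2 ≤ k := by
    rw [hk]
    exact one_lt_card.2 ⟨x₀, mem_Fx.2 (S.le_stab x₀ a₀ ha₀), y₀, mem_Fx.2 hay₀, hxy₀⟩
  have hcardB : #Blocks = Fintype.card X := by
    have h := sum_card_bipartiteAbove_eq_sum_card_bipartiteBelow (s := Blocks) (t := (univ : Finset X)) (fun F z => z ∈ F)
    simp only [bipartiteAbove, bipartiteBelow, filter_mem_eq_inter, univ_inter] at h
    rw [sum_congr rfl hkB, sum_congr rfl fun z _ => hthru z, sum_const, sum_const, smul_eq_mul, smul_eq_mul, card_univ] at h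
    exact Nat.eq_of_mul_eq_mul_right (by omega) h
  have hsmul : ∀ (g : G) (F : Blocks), (F : Finset X).image (g • ·) ∈ Blocks := by
    rintro g ⟨F, hF⟩
    obtain ⟨x, a, ha, h1, rfl⟩ := (hmemB F).1 hF
    exact (hmemB _).2 ⟨g • x, g * a * g⁻¹, S.equiv g x a ha, fun e => h1 (conj_eq_one_iff.1 e), Fx_conj g a⟩
  letI : MulAction G Blocks :=
    { smul := fun g F => ⟨(F : Finset X).image (g • ·), hsmul g F⟩
      one_smul := fun F => Subtype.ext (show (F : Finset X).image ((1 : G) • ·) = F by simp)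
      mul_smul := fun g h F => Subtype.ext (show (F : Finset X).image ((g * h) • ·) = ((F : Finset X).image (h • ·)).image (g • ·) by
        rw [image_image]; congr 1; funext z; exact mul_smul g h z) }
  have htrans : ∀ x y : X, ∃ g : G, g • x = y := S.exists_trans
  obtain ⟨D, hD, -⟩ := CfsgLib.AxialDesign.exists_design (B := Blocks) (fun F => (F : Finset X)) k
    (fun g x F => show g • x ∈ (F : Finset X).image (g • ·) ↔ _ from
      mem_image.trans ⟨fun ⟨z, hz, h⟩ => smul_left_cancel g h ▸ hz, fun h => ⟨x, h, rfl⟩⟩)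
    (fun F => hkB F F.2) htrans S.two (by rw [Fintype.card_coe, hcardB]) hk2 (by nlinarith)
  have hA : D.IsAut G := fun g x F => by
    rw [hD]
    exact mem_image.trans ⟨fun ⟨z, hz, h⟩ => smul_left_cancel g h ▸ hz, fun h => ⟨x, h, rfl⟩⟩
  let F₀ : Blocks := ⟨Fx a₀, (hmemB _).2 ⟨x₀, a₀, ha₀, ha₀1, rfl⟩⟩
  obtain ⟨A⟩ := CfsgLib.AxialDesign.exists_axial hA S.faithful S.two htrans
    ⟨F₀, a₀, ha₀1, fun x hx => mem_Fx.1 (by rw [hD] at hx; exact hx)⟩
  refine A.psl_normal ?_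
  by_cases hl : 2 ≤ D.l
  · exact A.coordinates_of_two_le hl F₀
  · exact A.coordinates_of_plane (by have := D.one_le_l; omega) S.two

end Sys

end CfsgLib.ONanAbelian
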