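import Cfsg.Agent.Lib.ONanAbelian.Basic

/-!
# The fixed points of a second point stabiliser form a line
-/

set_option autoImplicit false
set_option linter.unusedSectionVars false
set_option linter.style.haveILetI false

namespace CfsgLib.ONanAbelian

open MulAction Finset
open scoped Pointwise

namespace Sys

variable {G X : Type*} [Group G] [Finite G] [MulAction G X] [Finite X] (S : Sys G X)

/-- The fixed points of the stabiliser of `y` in the group of `x`. -/
def F (x y : X) : Set X := {z | ∀ a ∈ S.A x y, a • z = z}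

theorem left_mem_F (x y : X) : x ∈ S.F x y := fun _ ha => S.A_fix_left ha

theorem right_mem_F (x y : X) : y ∈ S.F x y := fun _ ha => ha.2

theorem orbit_subset_F (x y : X) : orbit (S.N x) y ⊆ S.F x y := by
  rintro _ ⟨n, rfl⟩ a ha
  exact S.A_fix_orbit ha n.2

theorem A_eq_of_mem_F {x y z : X} (hne : x ≠ y) (hz : z ∈ S.F x y) (hzx : x ≠ z) :
    S.A x z = S.A x y :=
  (Subgroup.eq_of_le_of_card_ge (H := S.A x y) (fun a ha => (show a ∈ S.A x z from ⟨ha.1, hz a ha⟩))
    (S.card_A hne hzx).ge).symm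

theorem line_subset_F {x y u v : X} (huv : u ≠ v) (hu : u ∈ S.F x y) (hv : v ∈ S.F x y) :
    S.line u v ⊆ S.F x y := fun _ hw a ha => S.fix_line ha.1 huv (hu a ha) (hv a ha) hw

theorem smul_F (g : G) (x y : X) : g • S.F x y = S.F (g • x) (g • y) := by
  ext z
  rw [Set.mem_smul_set_iff_inv_smul_mem]
  constructor
  · intro h a ha
    have h1 := h _ (S.inv_conj_mem_A g ha)
    rwa [mul_smul, mul_smul, smul_inv_smul, inv_smul_eq_iff, smul_inv_smul] at h1
  · intro h a ha
    have h1 := h _ (S.conj_mem_A g ha)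
    rw [mul_smul, mul_smul] at h1
    rwa [eq_inv_smul_iff]

theorem ncard_F {x y u v : X} (h : x ≠ y) (h' : u ≠ v) : (S.F x y).ncard = (S.F u v).ncard := by
  obtain ⟨g, rfl, rfl⟩ := S.two x y u v h h'
  rw [← S.smul_F, Set.ncard_smul_set]

/-- The group generated by the groups of the points of a class. -/
def K (x y : X) : Subgroup G := ⨆ v ∈ S.F x y, S.N v

theorem K_le {x y : X} : S.K x y ≤ stabilizer G (S.F x y) := by
  refine iSup₂_le fun v hv m hm => mem_stabilizer_set.2 ?_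
  have key : ∀ m ∈ S.N v, ∀ z ∈ S.F x y, m • z ∈ S.F x y := by
    intro m hm z hz
    by_cases hvz : v = z
    · rw [← hvz, S.le_stab v m hm]; exact hv
    exact S.line_subset_F hvz hv hz (S.N_fix_line hvz hm (S.right_mem_line hvz))
  exact fun z => ⟨fun h => inv_smul_smul m z ▸ key m⁻¹ (inv_mem hm) _ h, key m hm z⟩

/-- The group of a class is transitive on it. -/
theorem K_trans {x y u : X} (hne : x ≠ y) (hu : u ∈ S.F x y) : ∃ g ∈ S.K x y, g • x = u := by
  classical
  by_contra hc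
  push Not at hc
  haveI : Fact S.p.Prime := ⟨S.hp⟩
  have hK : ∀ v ∈ S.F x y, S.N v ≤ S.K x y := fun v hv => le_iSup₂ (f := fun v _ => S.N v) v hv
  let O : Set X := orbit (S.K x y) x
  have hO : O ⊆ S.F x y := by
    rintro _ ⟨g, rfl⟩
    exact ((mem_stabilizer_set.1 (S.K_le g.2)) x).2 (S.left_mem_F x y)
  have hinv : ∀ v ∈ S.F x y, ∀ m ∈ S.N v, ∀ z ∈ O, m • z ∈ O := by
    rintro v hv m hm _ ⟨g, rfl⟩
    exact ⟨⟨m, hK v hv hm⟩ * g, mul_smul (⟨m, hK v hv hm⟩ : S.K x y) g x⟩
  have huO : u ∉ O := fun ⟨g, hg⟩ => hc g g.2 hg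
  have count : ∀ v ∈ S.F x y, Nat.card O ≡ Nat.card {z : O // (z : X) = v} [MOD S.p] := by
    intro v hv
    letI : MulAction (S.N v) O :=
      { smul := fun m z => ⟨(m : G) • (z : X), hinv v hv m m.2 z z.2⟩
        one_smul := fun z => Subtype.ext (one_smul G (z : X))
        mul_smul := fun a b z => Subtype.ext (mul_smul (a : G) (b : G) (z : X)) }
    refine ((S.isP v).card_modEq_card_fixedPoints O).trans (Eq.subst ?_ (Nat.ModEq.refl _))
    refine Nat.card_congr (Equiv.subtypeEquivRight fun z => ⟨fun h => ?_, fun h m => Subtype.ext ?_⟩)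
    · by_contra hzv
      obtain ⟨n, hn, hnz⟩ := S.exists_moving (Ne.symm hzv)
      exact hnz (congrArg Subtype.val (h ⟨n, hn⟩))
    · show (m : G) • (z : X) = z
      rw [h, S.le_stab v m m.2]
  have h1 := count x (S.left_mem_F x y)
  have h2 := count u hu
  rw [show Nat.card {z : O // (z : X) = x} = 1 from Nat.card_eq_one_iff_unique.2
    ⟨⟨fun a b => Subtype.ext (Subtype.ext (a.2.trans b.2.symm))⟩, ⟨⟨⟨x, mem_orbit_self x⟩, rfl⟩⟩⟩] at h1
  rw [show Nat.card {z : O // (z : X) = u} = 0 from Finite.card_eq_zero_iff.2 ⟨fun z => huO (z.2 ▸ z.1.2)⟩] at h2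
  have h3 := Nat.modEq_zero_iff_dvd.1 (h1.symm.trans h2)
  exact S.hp.not_dvd_one h3

theorem F_eq {x y u v : X} (hne : x ≠ y) (hu : u ∈ S.F x y) (hv : v ∈ S.F x y) (huv : u ≠ v) :
    S.F u v = S.F x y := by
  obtain ⟨g, hg, rfl⟩ := S.K_trans hne hu
  have hw : g⁻¹ • v ∈ S.F x y := (mem_stabilizer_set.1 (S.K_le (inv_mem hg)) v).2 hv
  have hwx : x ≠ g⁻¹ • v := fun e => huv (by rw [e, smul_inv_smul])
  have h1 : S.F x (g⁻¹ • v) = S.F x y := by rw [F, F, S.A_eq_of_mem_F hne hw hwx]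
  calc S.F (g • x) v = g • S.F x (g⁻¹ • v) := by rw [S.smul_F, smul_inv_smul]
    _ = S.F x y := by rw [h1]; exact S.K_le hg

/-- The group of a point fixes the classes through it. -/
theorem N_fix_F {x z : X} (hne : x ≠ z) {n : G} (hn : n ∈ S.N x) {w : X} (hw : w ∈ S.F x z) :
    n • w ∈ S.F x z := by
  by_cases hxw : x = w
  · rw [← hxw, S.le_stab x n hn]; exact S.left_mem_F x z
  exact S.line_subset_F hxw (S.left_mem_F x z) hw (S.N_fix_line hxw hn (S.right_mem_line hxw))

/-- An element of the group of a point fixing two points fixes their class. -/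
theorem fix_F {x u v w : X} {a : G} (ha : a ∈ S.N x) (huv : u ≠ v) (hu : a • u = u) (hv : a • v = v)
    (hw : w ∈ S.F u v) : a • w = w := by
  by_cases hx : x ∈ S.F u v
  · obtain ⟨u', hu', hu'x, hau'⟩ : ∃ u' ∈ S.F u v, x ≠ u' ∧ a • u' = u' := by
      by_cases hxu : x = u
      · exact ⟨v, S.right_mem_F u v, hxu ▸ huv, hv⟩
      · exact ⟨u, S.left_mem_F u v, hxu, hu⟩
    rw [← S.F_eq huv hx hu' hu'x] at hw
    exact hw a ⟨ha, hau'⟩
  by_contra hne
  have hxw : x ≠ w := fun e => hx (e ▸ hw)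
  have h1 : a • w ∈ S.F u v := by
    have h := Set.smul_mem_smul_set (a := a) hw
    rwa [S.smul_F, hu, hv] at h
  have h2 : a • w ∈ S.F x w := S.N_fix_F hxw ha (S.right_mem_F x w)
  refine hx ?_
  rw [← S.F_eq huv hw h1 (Ne.symm hne), S.F_eq hxw (S.right_mem_F x w) h2 (Ne.symm hne)]
  exact S.left_mem_F x w

open Classical in
theorem F_card_and_cover {x y w : X} (hne : x ≠ y) (hyw : y ≠ w) (hx : x ∉ S.F y w) :
    (S.F x y).ncard = (orbit (S.N x) y).ncard + 1 ∧
      ∀ a ∈ S.N x, ∃ u ∈ S.F y w, a • u = u := by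
  cases nonempty_fintype G
  have hxw : x ≠ w := fun e => hx (e ▸ S.right_mem_F y w)
  obtain ⟨a, ha, haw⟩ : ∃ a ∈ S.A x y, a • w ≠ w := by
    by_contra hc
    push Not at hc
    exact hx (S.F_eq hne (S.right_mem_F x y) hc hyw ▸ S.left_mem_F x y)
  set e := (orbit (S.N x) y).ncard with he
  set D : Subgroup G := S.A x y ⊓ stabilizer G w
  have hD : e * Nat.card D = Nat.card (S.A x y) := by
    have h := CfsgLib.OstromWagner.ncard_orbit_mul (S.A x y) w
    rw [S.A_orbit hne ha haw, S.orbit_eq hxw hne] at h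
    exact h
  have hN : e * Nat.card (S.A x y) = Nat.card (S.N x) := S.orbit_mul x y
  let fs : Subgroup G → Finset G := fun H => univ.filter fun g => g ∈ H
  have hfs : ∀ H : Subgroup G, #(fs H) = Nat.card H := fun H => by
    rw [Nat.card_eq_fintype_card, Fintype.card_subtype]
  set L : Finset X := (S.F y w).toFinite.toFinset with hL
  have hLmem : ∀ u, u ∈ L ↔ u ∈ S.F y w := fun u => Set.Finite.mem_toFinset _
  have hxu : ∀ u ∈ L, x ≠ u := fun u hu h => hx (h ▸ (hLmem u).1 hu)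
  have hDle : ∀ u ∈ L, fs D ⊆ fs (S.A x u) := by
    intro u hu g hg
    simp only [fs, mem_filter, mem_univ, true_and] at hg ⊢
    exact ⟨hg.1.1, S.fix_F hg.1.1 hyw hg.1.2 hg.2 ((hLmem u).1 hu)⟩
  set f : X → Finset G := fun u => fs (S.A x u) \ fs D with hf
  have hdisj : (L : Set X).PairwiseDisjoint f := by
    intro u hu v hv huv
    rw [Function.onFun, Finset.disjoint_left]
    intro g hgu hgv
    simp only [hf, fs, mem_sdiff, mem_filter, mem_univ, true_and] at hgu hgv
    refine hgu.2 ⟨⟨hgu.1.1, ?_⟩, ?_⟩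
    all_goals
      refine S.fix_F hgu.1.1 huv hgu.1.2 hgv.1.2 ?_
      rw [S.F_eq hyw ((hLmem u).1 hu) ((hLmem v).1 hv) huv]
    · exact S.left_mem_F y w
    · exact S.right_mem_F y w
  have hsub : L.biUnion f ⊆ fs (S.N x) \ fs D := by
    intro g hg
    simp only [hf, fs, mem_biUnion, mem_sdiff, mem_filter, mem_univ, true_and] at hg ⊢
    obtain ⟨u, -, hg1, hg2⟩ := hg
    exact ⟨hg1.1, hg2⟩
  have hcardf : ∀ u ∈ L, #(f u) = Nat.card (S.A x y) - Nat.card D := fun u hu => by
    rw [hf, card_sdiff_of_subset (hDle u hu), hfs, hfs, S.card_A (hxu u hu) hne]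
  have hDN : fs D ⊆ fs (S.N x) := fun g hg => by
    simp only [fs, mem_filter, mem_univ, true_and] at hg ⊢
    exact hg.1.1
  have hLcard : #L = (S.F x y).ncard := by
    rw [S.ncard_F hne hyw, hL, ← Set.ncard_eq_toFinset_card]
  have hlow : e + 1 ≤ #L := by
    rw [hLcard, ← Set.ncard_insert_of_notMem (s := orbit (S.N x) y) (a := x)
      (fun h => S.ne_of_mem_orbit hne h rfl)]
    exact Set.ncard_le_ncard (Set.insert_subset (S.left_mem_F x y) (S.orbit_subset_F x y))
  have hcount := card_le_card hsub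
  rw [card_biUnion hdisj, sum_congr rfl hcardf, sum_const, smul_eq_mul, card_sdiff_of_subset hDN, hfs, hfs,
    ← hN, ← hD] at hcount
  have he2 : 2 ≤ e := S.two_le_orbit hne
  obtain ⟨e', he'⟩ : ∃ e', e = e' + 1 := ⟨e - 1, by omega⟩
  have hd : 0 < Nat.card D := Nat.card_pos
  have h1 : e * Nat.card D - Nat.card D = e' * Nat.card D := by rw [he', add_mul, one_mul, Nat.add_sub_cancel]
  have h2 : e * (e * Nat.card D) - Nat.card D = (e + 1) * (e' * Nat.card D) := by
    rw [Nat.sub_eq_iff_eq_add (by nlinarith)]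
    rw [he']; ring
  rw [h1, h2] at hcount
  have hupp : #L ≤ e + 1 := Nat.le_of_mul_le_mul_right hcount (Nat.mul_pos (by omega) hd)
  refine ⟨by omega, fun g hg => ?_⟩
  by_cases hgD : g ∈ fs D
  · exact ⟨y, S.left_mem_F y w, by simp only [fs, mem_filter] at hgD; exact hgD.2.1.2⟩
  have heq : L.biUnion f = fs (S.N x) \ fs D := by
    refine eq_of_subset_of_card_le hsub ?_
    rw [card_biUnion hdisj, sum_congr rfl hcardf, sum_const, smul_eq_mul, card_sdiff_of_subset hDN, hfs, hfs,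
      ← hN, ← hD, h1, h2]
    exact Nat.mul_le_mul_right _ hlow
  have : g ∈ L.biUnion f := heq ▸ mem_sdiff.2 ⟨by simp [fs, hg], hgD⟩
  simp only [hf, fs, mem_biUnion, mem_sdiff, mem_filter, mem_univ, true_and] at this
  obtain ⟨u, hu, hgu, -⟩ := this
  exact ⟨u, (hLmem u).1 hu, hgu.2⟩

theorem exists_notMem_F {x y : X} (hne : x ≠ y) : ∃ w, w ∉ S.F x y := by
  by_contra hc
  push Not at hc
  obtain ⟨a, ha, ha1, hay⟩ := S.nsr x y hne
  exact ha1 (S.faithful a fun z => hc z a ⟨ha, hay⟩)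

theorem ncard_F_eq {x y : X} (hne : x ≠ y) : (S.F x y).ncard = (orbit (S.N x) y).ncard + 1 := by
  obtain ⟨w, hw⟩ := S.exists_notMem_F hne
  have hyw : y ≠ w := fun e => hw (e ▸ S.right_mem_F x y)
  refine (S.F_card_and_cover hne hyw fun hx => hw ?_).1
  rw [S.F_eq hyw hx (S.left_mem_F y w) hne]
  exact S.right_mem_F y w

theorem F_eq_insert {x y : X} (hne : x ≠ y) : S.F x y = insert x (orbit (S.N x) y) := by
  refine (Set.eq_of_subset_of_ncard_le (Set.insert_subset (S.left_mem_F x y) (S.orbit_subset_F x y)) ?_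
    (Set.toFinite _)).symm
  rw [Set.ncard_insert_of_notMem (fun h => S.ne_of_mem_orbit hne h rfl), S.ncard_F_eq hne]

/-- Every element of the group of a point fixes a point on every line. -/
theorem meets {x u v : X} (huv : u ≠ v) {a : G} (ha : a ∈ S.N x) : ∃ z ∈ S.F u v, a • z = z := by
  by_cases hx : x ∈ S.F u v
  · exact ⟨x, hx, S.le_stab x a ha⟩
  exact (S.F_card_and_cover (fun e : x = u => hx (e ▸ S.left_mem_F u v)) huv hx).2 a ha

end Sys

end CfsgLib.ONanAbelian
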