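import Cfsg.Agent.Lib.ONanAbelian.Hyperplanes
import Cfsg.Agent.Lib.Cores.Layer
import Cfsg.Prelude.Def_Local

/-!
# O'Nan's theorem on abelian normal subgroups of point stabilisers
-/

set_option autoImplicit false
set_option linter.unusedSectionVars false
set_option linter.style.haveILetI false

namespace CfsgLib.ONanAbelian

open MulAction

/-- A simple non-abelian normal subgroup with trivial centralizer is the generalized Fitting subgroup. -/
theorem generalizedFitting_eq_of_simple_normal {L : Type*} [Group L] [Finite L] (N : Subgroup L) [N.Normal]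
    [IsSimpleGroup N] (hperf : Group.IsPerfect N) (hC : Subgroup.centralizer (N : Set L) = ⊥) :
    Cfsg.generalizedFittingSubgroup L = N := by
  have hq : Cfsg.IsQuasisimple N := by
    refine ⟨hperf, ?_⟩
    have hc : Subgroup.center N = ⊥ :=
      (IsSimpleGroup.eq_bot_or_eq_top_of_normal (Subgroup.center N) inferInstance).resolve_right fun h => by
        haveI : IsMulCommutative N := Subgroup.center_eq_top_iff.1 h
        exact not_nontrivial_iff_subsingleton.2 Group.IsPerfect.subsingleton_of_isMulCommutative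
          (inferInstance : Nontrivial N)
    let e : N ⧸ Subgroup.center N ≃* N := (QuotientGroup.quotientMulEquivOfEq hc).trans QuotientGroup.quotientBot
    haveI : Nontrivial (N ⧸ Subgroup.center N) := e.toEquiv.nontrivial
    exact IsSimpleGroup.isSimpleGroup_of_surjective e.symm.toMonoidHom e.symm.surjective
  have hN : N ≤ Cfsg.layer L :=
    le_sSup (show N ∈ {K : Subgroup L | Cfsg.IsComponent K} from
      ⟨(inferInstance : N.Normal).isSubnormal, hq⟩)
  have hcomp : Cfsg.layer L ≤ N := by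
    refine sSup_le fun K hK => ?_
    refine (CfsgLib.Cores.component_le_or_commutator_eq_bot hK
      (inferInstance : N.Normal).isSubnormal).resolve_right fun h => CfsgLib.Cores.component_ne_bot hK ?_
    rw [eq_bot_iff, ← hC]
    exact Subgroup.commutator_eq_bot_iff_le_centralizer.1 h
  have hfit : Cfsg.fittingSubgroup L ≤ N := by
    refine sSup_le fun M ⟨hMn, hMnil⟩ => ?_
    haveI := hMn
    rcases IsSimpleGroup.eq_bot_or_eq_top_of_normal (M.subgroupOf N) inferInstance with h | h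
    · refine le_trans ?_ bot_le
      rw [← hC, ← Subgroup.commutator_eq_bot_iff_le_centralizer, eq_bot_iff]
      refine le_trans (Subgroup.commutator_le_inf M N) ?_
      intro x hx
      have : (⟨x, hx.2⟩ : N) ∈ M.subgroupOf N := hx.1
      rw [h, Subgroup.mem_bot] at this
      exact Subgroup.mem_bot.2 (congrArg Subtype.val this)
    · exfalso
      have hle : N ≤ M := Subgroup.subgroupOf_eq_top.1 h
      haveI := hMnil
      haveI : Group.IsNilpotent N :=
        Subgroup.isNilpotent_of_ker_le_center (Subgroup.inclusion hle) (by rw [(MonoidHom.ker_eq_bot_iff _).2 (Subgroup.inclusion_injective hle)]; exact bot_le)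
      exact Group.IsPerfect.not_isSolvable N inferInstance
  exact le_antisymm (sup_le hcomp hfit) (hN.trans le_sup_left)

/-- An abelian normal subgroup of the stabiliser of a point which is not semiregular gives a system. -/
theorem exists_sys {G X : Type*} [Group G] [Finite G] [Fintype X] [MulAction G X] [FaithfulSMul G X]
    (h2 : MulAction.IsMultiplyPretransitive G X 2) (x : X) (N : Subgroup G)
    (hNle : N ≤ MulAction.stabilizer G x)
    (hNnormal : ∀ g ∈ MulAction.stabilizer G x, ∀ n ∈ N, g * n * g⁻¹ ∈ N) (hNab : IsMulCommutative N)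
    (hnsr : ∃ n ∈ N, n ≠ 1 ∧ ∃ y : X, y ≠ x ∧ n • y = y) : Nonempty (Sys G X) := by
  have htwo : ∀ a b c d : X, a ≠ b → c ≠ d → ∃ g : G, g • a = c ∧ g • b = d :=
    fun a b c d h h' => MulAction.is_two_pretransitive_iff.1 h2 h h'
  obtain ⟨n₀, hn₀, hn₀1, y₀, hy₀, hn₀y⟩ := hnsr
  have htrans : ∀ u, ∃ g : G, g • x = u := by
    intro u
    by_cases h : x = u
    · exact ⟨1, by rw [one_smul, h]⟩
    · obtain ⟨g, hg, -⟩ := htwo x u u x h (Ne.symm h)
      exact ⟨g, hg⟩
  let M : X → Subgroup G := fun u =>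
    { carrier := {m | ∀ g : G, g • x = u → g⁻¹ * m * g ∈ N}
      one_mem' := fun g _ => by simp [one_mem]
      mul_mem' := fun {a b} ha hb g hg => by
        rw [show g⁻¹ * (a * b) * g = (g⁻¹ * a * g) * (g⁻¹ * b * g) by group]
        exact mul_mem (ha g hg) (hb g hg)
      inv_mem' := fun {a} ha g hg => by
        rw [show g⁻¹ * a⁻¹ * g = (g⁻¹ * a * g)⁻¹ by group]
        exact inv_mem (ha g hg) }
  have hconj : ∀ g : G, ∀ m ∈ N, g * m * g⁻¹ ∈ M (g • x) := by
    intro g m hm g' hg'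
    rw [show g'⁻¹ * (g * m * g⁻¹) * g' = (g'⁻¹ * g) * m * (g'⁻¹ * g)⁻¹ by group]
    exact hNnormal _ (by rw [mem_stabilizer_iff, mul_smul, inv_smul_eq_iff, hg']) m hm
  have hMx : ∀ m, m ∈ N → m ∈ M x := fun m hm => by simpa using hconj 1 m hm
  have hfix : ∀ u, ∀ m ∈ M u, m • u = u := by
    intro u m hm
    obtain ⟨g, rfl⟩ := htrans u
    have h : (g⁻¹ * m * g) • x = x := hNle (hm g rfl)
    rwa [mul_smul, mul_smul, inv_smul_eq_iff] at h
  have hequiv : ∀ (g : G) u, ∀ m ∈ M u, g * m * g⁻¹ ∈ M (g • u) := by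
    intro g u m hm g' hg'
    rw [show g'⁻¹ * (g * m * g⁻¹) * g' = (g⁻¹ * g')⁻¹ * m * (g⁻¹ * g') by group]
    exact hm _ (by rw [mul_smul, hg', inv_smul_smul])
  have hcomm : ∀ u, ∀ a ∈ M u, ∀ b ∈ M u, a * b = b * a := by
    intro u a ha b hb
    obtain ⟨g, rfl⟩ := htrans u
    have h := congrArg Subtype.val (hNab.is_comm.comm ⟨_, ha g rfl⟩ ⟨_, hb g rfl⟩)
    calc a * b = g * ((g⁻¹ * a * g) * (g⁻¹ * b * g)) * g⁻¹ := by group
      _ = g * ((g⁻¹ * b * g) * (g⁻¹ * a * g)) * g⁻¹ := congrArg (fun t => g * t * g⁻¹) h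
      _ = b * a := by group
  have hfaith : ∀ g : G, (∀ u : X, g • u = u) → g = 1 := fun g hg =>
    FaithfulSMul.eq_of_smul_eq_smul fun u => by rw [hg u, one_smul]
  -- abelian gives trivial intersection
  have hcard : ∀ u v u' v', u ≠ v → u' ≠ v' →
      Nat.card (M u ⊓ M v : Subgroup G) = Nat.card (M u' ⊓ M v' : Subgroup G) := by
    have key : ∀ u v u' v', u ≠ v → u' ≠ v' →
        Nat.card (M u ⊓ M v : Subgroup G) ≤ Nat.card (M u' ⊓ M v' : Subgroup G) := by
      intro u v u' v' h h'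
      obtain ⟨g, rfl, rfl⟩ := htwo u v u' v' h h'
      exact Nat.card_le_card_of_injective (fun m =>
        (⟨g * m * g⁻¹, hequiv g u m m.2.1, hequiv g v m m.2.2⟩ : (M (g • u) ⊓ M (g • v) : Subgroup G)))
        fun a b e => Subtype.ext (mul_left_cancel (mul_right_cancel (congrArg Subtype.val e)))
    exact fun u v u' v' h h' => le_antisymm (key _ _ _ _ h h') (key _ _ _ _ h' h)
  have hti : ∀ u v, u ≠ v → ∀ d, d ∈ M u → d ∈ M v → d = 1 := by
    intro u v huv d hdu hdv
    refine hfaith d fun w => by_contra fun hw => ?_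
    have hne : ∀ z, d ∈ M z → z ≠ w := fun z hz e => hw (e ▸ hfix z d hz)
    have key : ∀ z, d ∈ M z → (M z ⊓ M w : Subgroup G) = M w ⊓ M (d • w) := by
      intro z hz
      refine Subgroup.eq_of_le_of_card_ge (fun m hm => ⟨hm.2, ?_⟩) (hcard _ _ _ _ (Ne.symm hw) (hne z hz)).le
      have h := hequiv d w m hm.2
      rwa [hcomm z d hz m hm.1, mul_inv_cancel_right] at h
    have hle : (M u ⊓ M w : Subgroup G) ≤ M u ⊓ M v := fun m hm =>
      ⟨hm.1, ((key v hdv).trans (key u hdu).symm ▸ hm : m ∈ (M v ⊓ M w : Subgroup G)).1⟩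
    have heq := Subgroup.eq_of_le_of_card_ge hle (hcard _ _ _ _ huv (hne u hdu)).le
    have hd : d ∈ (M u ⊓ M w : Subgroup G) := heq ▸ ⟨hdu, hdv⟩
    exact hw (hfix w d hd.2)
  -- the elements of prime order
  obtain ⟨p, hp, hpn⟩ := Nat.exists_prime_and_dvd (n := orderOf n₀) (by simpa [orderOf_eq_one_iff] using hn₀1)
  let P : X → Subgroup G := fun u =>
    { carrier := {m | m ∈ M u ∧ m ^ p = 1}
      one_mem' := ⟨one_mem _, one_pow p⟩
      mul_mem' := fun {a b} ha hb => ⟨mul_mem ha.1 hb.1, by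
        rw [(show Commute a b from hcomm u a ha.1 b hb.1).mul_pow, ha.2, hb.2, one_mul]⟩
      inv_mem' := fun {a} ha => ⟨inv_mem ha.1, by rw [inv_pow, ha.2, inv_one]⟩ }
  haveI : Fact p.Prime := ⟨hp⟩
  have hPequiv : ∀ (g : G) u, ∀ m ∈ P u, g * m * g⁻¹ ∈ P (g • u) := fun g u m hm =>
    ⟨hequiv g u m hm.1, by rw [conj_pow, hm.2, mul_one, mul_inv_cancel]⟩
  have hnsr' : ∀ u v, u ≠ v → ∃ a ∈ P u, a ≠ 1 ∧ a • v = v := by
    obtain ⟨k, hk⟩ := hpn
    have hk0 : 0 < k := by
      have := orderOf_pos n₀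
      rw [hk] at this
      exact Nat.pos_of_ne_zero fun e => by simp [e] at this
    have ha1 : n₀ ^ k ≠ 1 := fun e => by
      have := Nat.le_of_dvd hk0 (orderOf_dvd_of_pow_eq_one e)
      rw [hk] at this
      nlinarith [hp.two_le]
    have hay : (n₀ ^ k) • y₀ = y₀ := (stabilizer G y₀).pow_mem hn₀y k
    have haP : n₀ ^ k ∈ P x := ⟨hMx _ (pow_mem hn₀ k), by rw [← pow_mul, mul_comm, ← hk, pow_orderOf_eq_one]⟩
    intro u v huv
    obtain ⟨g, rfl, rfl⟩ := htwo x y₀ u v hy₀.symm huv
    exact ⟨g * n₀ ^ k * g⁻¹, hPequiv g x _ haP, fun e => ha1 (conj_eq_one_iff.1 e),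
      by rw [mul_smul, mul_smul, inv_smul_smul, hay]⟩
  exact ⟨{
    N := P
    p := p
    hp := hp
    isP := fun u m => ⟨1, Subtype.ext (by simpa using m.2.2)⟩
    le_stab := fun u m hm => hfix u m hm.1
    equiv := hPequiv
    comm := fun u a ha b hb => hcomm u a ha.1 b hb.1
    ti := fun u v h g hg hg' => hti u v h g hg.1 hg'.1
    two := htwo
    nsr := hnsr'
    faithful := hfaith }⟩

end CfsgLib.ONanAbelian
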